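import Cfsg.Agent.H362.Dl.SpSmall
import Cfsg.Agent.H664.Eight.Base
import Cfsg.Agent.H167.HasSt
import Cfsg.Agent.Nodes.WittInst
import Cfsg.Agent.S0270

/-!
# S4899: the degrees of `PSp_{2m}(q)`, `m ≥ 3`: general part (helper362)

`dg_mem`, `st_mem`, `mul_mem`, `exists_fg` : members of `charDegrees (PSp m K)`;
`eight_gen` : `1`, the Steinberg degree, the two degrees of the rank 3 action, `dg k`, `a ≤ k ≤ m`, `a + 3 ≤ m`.
`eight_gen_one` : the same with one more degree.
-/

set_option autoImplicit false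
set_option linter.unusedSectionVars false

open Cfsg

namespace Cfsg.Agent.H362.Eight

open Cfsg.Agent.H477.HC Module Cfsg.Agent.H53.HC Cfsg.Agent.Characters Cfsg.Agent.H362.Dl Cfsg.Agent.H664.Eight

universe u v

theorem mem_cd {S : Type u} [Group S] {χ : S → ℂ} {d : ℕ} (hχ : IsIrrCharacter S χ) (h : χ 1 = d) :
    d ∈ charDegrees S :=
  ⟨⟨χ, hχ⟩, H670.PSing.charDegree_eq_of h⟩

theorem exists_of_mem {S : Type u} [Group S] {d : ℕ} (h : d ∈ charDegrees S) :
    ∃ χ : S → ℂ, IsIrrCharacter S χ ∧ χ 1 = d := by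
  obtain ⟨χ, rfl⟩ := h
  obtain ⟨n, -, hn⟩ := Core.isIrr_apply_one χ.2
  exact ⟨χ, χ.2, by rw [hn, H670.PSing.charDegree_eq_of hn]⟩

variable (K : Type u) [Field K] [Finite K]

theorem finite_psp' (m : ℕ) : Finite (PSp m K) := by
  unfold PSp
  infer_instance

theorem dg_mem {m k : ℕ} (hk0 : 0 < k) (hk : k ≤ m) (h2 : Nat.card K = 2 → 3 ≤ k) (h3 : Nat.card K = 3 → 3 ≤ k)
    (h5 : Nat.card K = 5 → 2 ≤ k) : dg (CForm.spF K m) k ∈ charDegrees (PSp m K) := by
  obtain ⟨χ, hχ, h⟩ := exists_char_dg K hk0 hk h2 h3 h5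
  exact mem_cd hχ h

/-- a character of `PSp n K` as a character of the isometry group -/
theorem exists_lift {n d : ℕ} (hd : d ∈ charDegrees (PSp n K)) : ∃ ψ₀ : (CForm.spF K n).iso → ℂ,
    IsIrrCharacter _ ψ₀ ∧ ψ₀ 1 = d ∧ ψ₀ (negOne K n) = ψ₀ 1 := by
  obtain ⟨χ, hχ, hχ1⟩ := exists_of_mem hd
  let π : (CForm.spF K n).iso →* PSp n K :=
    (QuotientGroup.mk' (Subgroup.center (Matrix.symplecticGroup (Fin n) K))).comp (isoSp n K).symm.toMonoidHom
  have hπ : Function.Surjective π := (QuotientGroup.mk'_surjective _).comp (isoSp n K).symm.surjective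
  refine ⟨χ ∘ π, Core.isIrr_comp π hπ hχ, by rw [Function.comp_apply, map_one, hχ1], ?_⟩
  rw [Function.comp_apply, Function.comp_apply, map_one]
  congr 1
  change ((((isoSp n K).symm (negOne K n) : Matrix.symplecticGroup (Fin n) K)) : PSp n K) = 1
  refine (QuotientGroup.eq_one_iff _).2 ?_
  have h1 := negOne_center K n
  rw [Subgroup.mem_center_iff] at h1 ⊢
  intro g
  have h2 := congrArg (isoSp n K).symm (h1 (isoSp n K g))
  rw [map_mul, map_mul, (isoSp n K).symm_apply_apply] at h2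
  exact h2

/-- **`c ⊗ ψ`** -/
theorem mul_mem {k n d : ℕ} (hnk : n < k) (h2 : Nat.card K = 2 → 3 ≤ k) (h3 : Nat.card K = 3 → 3 ≤ k)
    (h5 : Nat.card K = 5 → 2 ≤ k) (hd : d ∈ charDegrees (PSp n K)) :
    dg (CForm.spF K (k + n)) k * d ∈ charDegrees (PSp (k + n) K) := by
  obtain ⟨c, hc⟩ := exists_cus_sq K rfl k (by omega) h2 h3 h5
  obtain ⟨ψ₀, hψ, hψ1, hψ2⟩ := exists_lift K hd
  obtain ⟨χ, hχ, hχ1⟩ := psp_char_hc K hnk hc hψ (fun z' hz' => by
    rw [eq_negOne K hz', hψ2, hc.scal (-1) (neg_one_sq)])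
  refine mem_cd hχ ?_
  rw [hχ1, hψ1, Nat.cast_mul]

section char

variable {p : ℕ} [Fact p.Prime] [CharP K p]

theorem dvd_card_char : p ∣ Nat.card K := by
  obtain ⟨s, hs⟩ := card_pow K p
  have hq : 1 < Nat.card K := Finite.one_lt_card
  rw [hs]
  refine dvd_pow_self p ?_
  rintro rfl
  rw [pow_zero] at hs
  omega

/-- the power of `p` in the order of `PSp` -/
theorem exists_card_psp (m : ℕ) : ∃ N, ¬ p ∣ N ∧ Nat.card (PSp m K) = Nat.card K ^ (m ^ 2) * N := by
  have hp : p.Prime := Fact.out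
  have hq : 1 < Nat.card K := Finite.one_lt_card
  have hpq := dvd_card_char K (p := p)
  have h3 := Subgroup.card_eq_card_quotient_mul_card_subgroup (Subgroup.center (Matrix.symplecticGroup (Fin m) K))
  rw [Nat.card_congr (isoSp m K).toEquiv, card_spF] at h3
  have hN : ¬ p ∣ ∏ i ∈ Finset.range m, (Nat.card K ^ (2 * (i + 1)) - 1) := by
    intro h
    obtain ⟨i, hi, hi'⟩ := (Prime.dvd_finsetProd_iff hp.prime _).1 h
    have h4 : 1 ≤ Nat.card K ^ (2 * (i + 1)) := Nat.one_le_pow _ _ (by omega)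
    have h5 : p ∣ Nat.card K ^ (2 * (i + 1)) := hpq.trans (dvd_pow_self _ (by omega))
    have h6 := Nat.dvd_sub h5 hi'
    rw [Nat.sub_sub_self h4] at h6
    exact hp.one_lt.ne' (Nat.dvd_one.1 h6)
  -- the centre is prime to `p`
  have hZ : Nat.Coprime p (Nat.card (Subgroup.center (Matrix.symplecticGroup (Fin m) K))) := by
    rw [Nat.Prime.coprime_iff_not_dvd hp]
    intro h
    obtain ⟨z, hz⟩ := exists_prime_orderOf_dvd_card' p h
    have hz2 : z * z = 1 := by
      rcases Cfsg.Agent.ClassicalGeometry.SympInvolutions.center_eq z.2 with h4 | h4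
      · have : (z : Matrix.symplecticGroup (Fin m) K) = 1 := Subtype.ext h4
        have h5 : z = 1 := Subtype.ext this
        rw [h5, one_mul]
      · apply Subtype.ext
        apply Subtype.ext
        change ((z : Matrix.symplecticGroup (Fin m) K) : Matrix (Fin m ⊕ Fin m) (Fin m ⊕ Fin m) K) * _ = 1
        rw [h4, neg_mul_neg, one_mul]
    have h5 : orderOf z ∣ 2 := orderOf_dvd_of_pow_eq_one (by rw [pow_two, hz2])
    rw [hz] at h5
    have hp2 : p = 2 := (Nat.prime_dvd_prime_iff_eq hp Nat.prime_two).1 h5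
    subst hp2
    have h6 : z = 1 := by
      rcases Cfsg.Agent.ClassicalGeometry.SympInvolutions.center_eq z.2 with h4 | h4
      · exact Subtype.ext (Subtype.ext h4)
      · apply Subtype.ext
        apply Subtype.ext
        rw [h4]
        have h7 : (2 : K) = 0 := by exact_mod_cast (CharP.cast_eq_zero K 2)
        ext i j
        change -((1 : Matrix (Fin m ⊕ Fin m) (Fin m ⊕ Fin m) K) i j) = (1 : Matrix (Fin m ⊕ Fin m) (Fin m ⊕ Fin m) K) i j
        linear_combination (-(1 : Matrix (Fin m ⊕ Fin m) (Fin m ⊕ Fin m) K) i j) * h7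
    rw [h6, orderOf_one] at hz
    omega
  have hZq : Nat.Coprime (Nat.card K ^ (m ^ 2)) (Nat.card (Subgroup.center (Matrix.symplecticGroup (Fin m) K))) := by
    obtain ⟨s, hs⟩ := card_pow K p
    rw [hs, ← pow_mul]
    exact Nat.Coprime.pow_left _ hZ
  have h7 : Nat.card K ^ (m ^ 2) ∣ Nat.card (PSp m K) := by
    refine hZq.dvd_of_dvd_mul_right ?_
    change _ ∣ Nat.card (Matrix.symplecticGroup (Fin m) K ⧸ Subgroup.center (Matrix.symplecticGroup (Fin m) K)) * _
    rw [← h3]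
    exact Dvd.intro _ rfl
  obtain ⟨N, hN'⟩ := h7
  refine ⟨N, fun h => hN ?_, hN'⟩
  have h8 : Nat.card K ^ (m ^ 2) * ∏ i ∈ Finset.range m, (Nat.card K ^ (2 * (i + 1)) - 1) =
      Nat.card K ^ (m ^ 2) * (N * Nat.card (Subgroup.center (Matrix.symplecticGroup (Fin m) K))) := by
    rw [h3, ← mul_assoc, ← hN']
  have h9 := Nat.eq_of_mul_eq_mul_left (by positivity) h8
  rw [h9]
  exact Dvd.dvd.mul_right h _

end char

/-- **the Steinberg degree** -/
theorem st_mem {m : ℕ} (hm : 1 ≤ m) : Nat.card K ^ (m ^ 2) ∈ charDegrees (PSp m K) := by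
  obtain ⟨p, hcp⟩ := CharP.exists K
  have hp : p.Prime := (CharP.char_is_prime_or_zero K p).resolve_right (CharP.char_ne_zero_of_finite K p)
  have : Fact p.Prime := ⟨hp⟩
  have := finite_psp' K m
  obtain ⟨χ, hχ, h1, -⟩ := H167.StChar.HasSt.of_hasRGD (Nodes.WittInst.hasRGD_PSp (F := K) (p := p) hm)
  obtain ⟨N, hN, hc⟩ := exists_card_psp K (p := p) m
  refine mem_cd hχ ?_
  rw [h1]
  congr 1
  have hq : 1 < Nat.card K := Finite.one_lt_card
  obtain ⟨s, hs⟩ := card_pow K p
  have hN0 : N ≠ 0 := by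
    rintro rfl
    exact hN (dvd_zero _)
  rw [hc, Nat.factorization_mul (by positivity) hN0, Finsupp.add_apply, Nat.factorization_eq_zero_of_not_dvd hN, add_zero,
    hs, ← pow_mul, hp.factorization_pow, Finsupp.single_eq_same]

/-- **the two degrees of the rank 3 action** -/
theorem exists_fg {m : ℕ} (hm : 2 ≤ m) : ∃ f g : ℕ, f ∈ charDegrees (PSp m K) ∧ g ∈ charDegrees (PSp m K) ∧ 1 < g ∧ g < f ∧
    f < dg (CForm.spF K m) 1 ∧
    2 * ((Nat.card K : ℤ) - 1) * f = Nat.card K * ((Nat.card K : ℤ) ^ m - 1) * ((Nat.card K : ℤ) ^ (m - 1) + 1) ∧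
    2 * ((Nat.card K : ℤ) - 1) * g = Nat.card K * ((Nat.card K : ℤ) ^ m + 1) * ((Nat.card K : ℤ) ^ (m - 1) - 1) := by
  have hq : 1 < Nat.card K := Finite.one_lt_card
  let _ := Fintype.ofFinite K
  obtain ⟨χ₁, χ₂, f, g, hχ₁, hχ₂, hf, hg, hf', hg'⟩ := Cfsg.Agent.H677.SpRank.exists_chars (F := K) hm
  refine ⟨f, g, mem_cd hχ₁ hf, mem_cd hχ₂ hg, ?_, ?_, ?_, hf', hg'⟩
  all_goals
    obtain ⟨q, hq'⟩ : ∃ q : ℤ, q = (Nat.card K : ℤ) := ⟨_, rfl⟩
    obtain ⟨P, hP⟩ : ∃ P : ℤ, P = (Nat.card K : ℤ) ^ (m - 1) := ⟨_, rfl⟩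
    have hqz : (2 : ℤ) ≤ q := by rw [hq']; exact_mod_cast hq
    have hm0 : (Nat.card K : ℤ) ^ m = q * P := by
      rw [hP, hq', ← pow_succ']; congr 1; omega
    have hPq : q ≤ P := by
      rw [hP, hq']
      calc (Nat.card K : ℤ) = (Nat.card K : ℤ) ^ 1 := (pow_one _).symm
        _ ≤ (Nat.card K : ℤ) ^ (m - 1) := pow_le_pow_right₀ (by omega) (by omega)
    rw [hm0, ← hP, ← hq'] at hf' hg'
  · have h1 : (1 : ℤ) < g := by
      by_contra h
      push Not at h
      have h2 : 2 * (q - 1) * (g : ℤ) ≤ 2 * (q - 1) * 1 := mul_le_mul_of_nonneg_left h (by omega)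
      have h3 : q * (q * P + 1) * (P - 1) ≥ q * (q * P + 1) * 1 := by
        exact mul_le_mul_of_nonneg_left (by omega) (mul_nonneg (by omega) (by nlinarith))
      nlinarith
    exact_mod_cast h1
  · have h1 : (g : ℤ) < f := by
      by_contra h
      push Not at h
      have h2 : 2 * (q - 1) * (f : ℤ) ≤ 2 * (q - 1) * g := mul_le_mul_of_nonneg_left h (by omega)
      rw [hf', hg'] at h2
      have h3 : 0 < q * P * (q - 1) := by
        have : 0 < P := by omega
        have : 0 < q - 1 := by omega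
        positivity
      nlinarith
    exact_mod_cast h1
  · have hd := dg_sp K (m := m) (k := 1) (by omega) one_pos
    rw [pow_one, Finset.prod_range_one, Nat.sub_zero] at hd
    have h4 : 1 ≤ Nat.card K ^ (2 * m) := Nat.one_le_pow _ _ (by omega)
    have hd' : (q - 1) * (dg (CForm.spF K m) 1 : ℤ) = (q * P) ^ 2 - 1 := by
      have h5 := congrArg (Nat.cast : ℕ → ℤ) hd
      rw [Nat.cast_mul, Nat.cast_sub hq.le, Nat.cast_sub h4, Nat.cast_pow, Nat.cast_one, mul_comm 2 m, pow_mul, hm0, ← hq'] at h5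
      exact h5
    have h1 : (f : ℤ) < dg (CForm.spF K m) 1 := by
      by_contra h
      push Not at h
      have h2 : 2 * (q - 1) * (dg (CForm.spF K m) 1 : ℤ) ≤ 2 * (q - 1) * f := mul_le_mul_of_nonneg_left h (by omega)
      rw [hf', mul_assoc 2, hd'] at h2
      have h3 : 0 < (q * P - 1) * (q * P + 2 - q) := by
        have h6 : 0 < q * P - 1 := by nlinarith
        have h7 : 0 < q * P + 2 - q := by nlinarith
        positivity
      nlinarith
    exact_mod_cast h1

theorem dg_ne_st {m k : ℕ} (hk0 : 0 < k) (hk : k ≤ m) (d : ℕ) : dg (CForm.spF K m) k * d ≠ Nat.card K ^ (m ^ 2) := by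
  intro h
  obtain ⟨p, hcp⟩ := CharP.exists K
  have hp : p.Prime := (CharP.char_is_prime_or_zero K p).resolve_right (CharP.char_ne_zero_of_finite K p)
  have : Fact p.Prime := ⟨hp⟩
  have hq : 1 < Nat.card K := Finite.one_lt_card
  obtain ⟨s, hs⟩ := card_pow K p
  have h1 : dg (CForm.spF K m) k ∣ p ^ (s * m ^ 2) := by
    rw [pow_mul, ← hs, ← h]
    exact Dvd.intro _ rfl
  obtain ⟨j, -, hj⟩ := (Nat.dvd_prime_pow hp).1 h1
  rcases j with _ | j
  · have h3 : 2 ≤ m ∨ m = 1 := by omega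
    have h4 := dg_sp K hk hk0
    rw [hj, pow_zero, mul_one] at h4
    -- the product is at least its first factor
    obtain ⟨l, rfl⟩ : ∃ l, k = l + 1 := ⟨k - 1, by omega⟩
    rw [Finset.prod_range_succ', Nat.sub_zero] at h4
    have h5 : 1 ≤ ∏ i ∈ Finset.range l, (Nat.card K ^ (2 * (m - (i + 1))) - 1) := by
      refine Nat.one_le_iff_ne_zero.2 (Finset.prod_ne_zero_iff.2 fun i hi => ?_)
      rw [Finset.mem_range] at hi
      have : 1 < Nat.card K ^ (2 * (m - (i + 1))) := Nat.one_lt_pow (by omega) hq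
      omega
    have h6 : Nat.card K ^ (l + 1) < Nat.card K ^ (2 * m) := Nat.pow_lt_pow_right hq (by omega)
    have h7 : 1 * (Nat.card K ^ (2 * m) - 1) ≤ (∏ i ∈ Finset.range l, (Nat.card K ^ (2 * (m - (i + 1))) - 1)) * (Nat.card K ^ (2 * m) - 1) :=
      Nat.mul_le_mul_right _ h5
    have h8 : 1 ≤ Nat.card K ^ (l + 1) := Nat.one_le_pow _ _ (by omega)
    rw [← h4, one_mul] at h7
    clear h h1 hj h4
    generalize Nat.card K ^ (l + 1) = x at *
    generalize Nat.card K ^ (2 * m) = y at *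
    omega
  · exact not_dvd_dg K (p := p) hk hk0 (by rw [hj]; exact dvd_pow_self p (Nat.succ_ne_zero j))

/-- **four degrees `≥ dg 1` different from the Steinberg degree** -/
theorem eight_of_four {m : ℕ} (hm : 2 ≤ m) (E : Finset ℕ) (hE : ∀ e ∈ E, e ∈ charDegrees (PSp m K) ∧
    dg (CForm.spF K m) 1 ≤ e ∧ e ≠ Nat.card K ^ (m ^ 2)) (hc : 4 ≤ E.card) : Eight (PSp m K) := by
  classical
  have := finite_psp' K m
  have hq : 1 < Nat.card K := Finite.one_lt_card
  obtain ⟨f, g, hf, hg, h1, h2, h3, -, -⟩ := exists_fg K hm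
  have hS := st_mem K (m := m) (by omega)
  have h4 : dg (CForm.spF K m) 1 < Nat.card K ^ (m ^ 2) := by
    have hd := dg_sp K (m := m) (k := 1) (by omega) one_pos
    rw [pow_one, Finset.prod_range_one, Nat.sub_zero] at hd
    have h5 : 1 ≤ Nat.card K ^ (2 * m) := Nat.one_le_pow _ _ (by omega)
    have h6 : 1 * dg (CForm.spF K m) 1 ≤ (Nat.card K - 1) * dg (CForm.spF K m) 1 := Nat.mul_le_mul_right _ (by omega)
    have h7 : Nat.card K ^ (2 * m) ≤ Nat.card K ^ (m ^ 2) := Nat.pow_le_pow_right (by omega) (by nlinarith)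
    omega
  refine eight_of_finset (insert 1 (insert g (insert f (insert (Nat.card K ^ (m ^ 2)) E)))) ?_ ?_
  · rw [Finset.card_insert_of_notMem, Finset.card_insert_of_notMem, Finset.card_insert_of_notMem,
      Finset.card_insert_of_notMem]
    · omega
    · intro h; exact (hE _ h).2.2 rfl
    · intro h
      rcases Finset.mem_insert.1 h with h | h
      · omega
      · have := (hE _ h).2.1; omega
    · intro h
      rcases Finset.mem_insert.1 h with h | h
      · omega
      · rcases Finset.mem_insert.1 h with h | h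
        · omega
        · have := (hE _ h).2.1; omega
    · intro h
      rcases Finset.mem_insert.1 h with h | h
      · omega
      · rcases Finset.mem_insert.1 h with h | h
        · omega
        · rcases Finset.mem_insert.1 h with h | h
          · omega
          · have := (hE _ h).2.1; omega
  · intro d hd
    rcases Finset.mem_insert.1 hd with rfl | hd
    · exact one_mem
    · rcases Finset.mem_insert.1 hd with rfl | hd
      · exact hg
      · rcases Finset.mem_insert.1 hd with rfl | hd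
        · exact hf
        · rcases Finset.mem_insert.1 hd with rfl | hd
          · exact hS
          · exact (hE _ hd).1

/-- the set of the degrees `dg k`, `a ≤ k ≤ m` -/
noncomputable def dgs (m a : ℕ) : Finset ℕ := (Finset.Ico a (m + 1)).image (fun k => dg (CForm.spF K m) k)

theorem card_dgs {m a : ℕ} (hm : m = 2 → 3 ≤ Nat.card K) (ha : 0 < a) : (dgs K m a).card = m + 1 - a := by
  unfold dgs
  rw [Finset.card_image_of_injOn, Nat.card_Ico]
  refine (dg_injOn K hm).mono ?_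
  intro x hx
  rw [Finset.coe_Ico, Set.mem_Ico] at hx ⊢
  omega

theorem dg_one_le {m k : ℕ} (hm : m = 2 → 3 ≤ Nat.card K) (hk0 : 0 < k) (hk : k ≤ m) :
    dg (CForm.spF K m) 1 ≤ dg (CForm.spF K m) k := by
  rcases Nat.lt_or_ge 1 k with h | h
  · exact (dg_lt K one_pos h hk hm).le
  · obtain rfl : k = 1 := by omega
    exact le_rfl

theorem mem_dgs {m a : ℕ} (hm : m = 2 → 3 ≤ Nat.card K) (ha : 0 < a) (h2 : Nat.card K = 2 → 3 ≤ a)
    (h3 : Nat.card K = 3 → 3 ≤ a) (h5 : Nat.card K = 5 → 2 ≤ a) {e : ℕ} (he : e ∈ dgs K m a) :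
    e ∈ charDegrees (PSp m K) ∧ dg (CForm.spF K m) 1 ≤ e ∧ e ≠ Nat.card K ^ (m ^ 2) := by
  obtain ⟨k, hk, rfl⟩ := Finset.mem_image.1 he
  rw [Finset.mem_Ico] at hk
  refine ⟨dg_mem K (by omega) (by omega) (fun h => by have := h2 h; omega) (fun h => by have := h3 h; omega)
    (fun h => by have := h5 h; omega), dg_one_le K hm (by omega) (by omega), ?_⟩
  have := dg_ne_st K (m := m) (k := k) (by omega) (by omega) 1
  rwa [mul_one] at this

/-- the general case -/
theorem eight_gen {m a : ℕ} (ha : 0 < a) (h2 : Nat.card K = 2 → 3 ≤ a) (h3 : Nat.card K = 3 → 3 ≤ a)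
    (h5 : Nat.card K = 5 → 2 ≤ a) (ham : a + 3 ≤ m) : Eight (PSp m K) :=
  eight_of_four K (by omega) (dgs K m a) (fun e he => mem_dgs K (by omega) ha h2 h3 h5 he)
    (by rw [card_dgs K (by omega) ha]; omega)

/-- `dg (m - 1) * d` is a new degree -/
theorem extra_ne {m k d : ℕ} (hm : 3 ≤ m) (hk0 : 0 < k) (hk : k ≤ m) (hd : 1 < d) :
    dg (CForm.spF K m) (m - 1) * d ≠ dg (CForm.spF K m) k := by
  have hq : 1 < Nat.card K := Finite.one_lt_card
  have hpos := dg_pos K (m := m) (k := m - 1) (by omega) (by omega)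
  rcases Nat.lt_or_ge k m with h | h
  · have h1 : dg (CForm.spF K m) k ≤ dg (CForm.spF K m) (m - 1) := by
      rcases Nat.lt_or_ge k (m - 1) with h2 | h2
      · exact (dg_lt K hk0 h2 (by omega) (by omega)).le
      · obtain rfl : k = m - 1 := by omega
        exact le_rfl
    have h2 : dg (CForm.spF K m) (m - 1) * 1 < dg (CForm.spF K m) (m - 1) * d := Nat.mul_lt_mul_of_pos_left hd hpos
    omega
  · obtain rfl : k = m := by omega
    intro heq
    have h1 := dg_sp K (m := k) (k := k - 1) (by omega) (by omega)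
    have h2 := dg_sp K (m := k) (k := k) le_rfl (by omega)
    obtain ⟨l, hl⟩ : ∃ l, k = l + 1 := ⟨k - 1, by omega⟩
    have h3 : ∏ i ∈ Finset.range k, (Nat.card K ^ (2 * (k - i)) - 1) =
        (∏ i ∈ Finset.range (k - 1), (Nat.card K ^ (2 * (k - i)) - 1)) * (Nat.card K ^ 2 - 1) := by
      rw [show Finset.range k = Finset.range (k - 1 + 1) from by congr 1; omega, Finset.prod_range_succ]
      congr 3
      omega
    rw [h3, ← h1, ← heq] at h2
    have h4 : (Nat.card K ^ k - 1) * d = (Nat.card K ^ (k - 1) - 1) * (Nat.card K ^ 2 - 1) := by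
      apply Nat.eq_of_mul_eq_mul_left hpos
      linarith [h2]
    -- `q^k - 1 = (q - 1) A`, `q^(k-1) - 1 = (q - 1) B`, `A = q B + 1`
    obtain ⟨q, hq'⟩ : ∃ q, Nat.card K = q := ⟨_, rfl⟩
    rw [hq'] at h4 hq
    have h5 : q - 1 ∣ q ^ (k - 1) - 1 := by
      simpa using Nat.sub_dvd_pow_sub_pow q 1 (k - 1)
    obtain ⟨B, hB⟩ := h5
    have h6 : q ^ k - 1 = (q - 1) * (q * B + 1) := by
      have h7 : q ^ k = q * q ^ (k - 1) := by rw [← pow_succ']; congr 1; omega
      have h8 : q ^ (k - 1) = (q - 1) * B + 1 := by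
        have : 1 ≤ q ^ (k - 1) := Nat.one_le_pow _ _ (by omega)
        omega
      rw [h7, h8]
      obtain ⟨t, rfl⟩ : ∃ t, q = t + 1 := ⟨q - 1, by omega⟩
      rw [Nat.add_sub_cancel]
      have : (t + 1) * (t * B + 1) = t * ((t + 1) * B + 1) + 1 := by ring
      rw [this, Nat.add_sub_cancel]
    rw [h6, hB] at h4
    have h7 : (q * B + 1) * d = B * (q ^ 2 - 1) := by
      apply Nat.eq_of_mul_eq_mul_left (show 0 < q - 1 by omega)
      linarith [h4]
    have h8 : Nat.Coprime (q * B + 1) B := by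
      rw [Nat.coprime_mul_right_add_left]
      exact Nat.coprime_one_left B
    have h9 : q * B + 1 ∣ q ^ 2 - 1 := h8.dvd_of_dvd_mul_left ⟨d, h7.symm⟩
    have h10 : 0 < q ^ 2 - 1 := by
      have : 1 < q ^ 2 := Nat.one_lt_pow two_ne_zero hq
      omega
    have h11 := Nat.le_of_dvd h10 h9
    -- `B ≥ q + 1`
    have h12 : q + 1 ≤ B := by
      have h13 : q ^ 2 ≤ q ^ (k - 1) := Nat.pow_le_pow_right (by omega) (by omega)
      obtain ⟨t, rfl⟩ : ∃ t, q = t + 1 := ⟨q - 1, by omega⟩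
      rw [Nat.add_sub_cancel] at hB
      by_contra hcon
      push Not at hcon
      have h14 : t * B ≤ t * (t + 1) := Nat.mul_le_mul_left _ (by omega)
      have h15 : (t + 1) ^ 2 = t * (t + 1) + t + 1 := by ring
      omega
    have h13 : q * (q + 1) ≤ q * B := Nat.mul_le_mul_left _ h12
    have h14 : q * (q + 1) = q ^ 2 + q := by ring
    omega

/-- one more degree -/
theorem eight_gen_one {m a d : ℕ} (hm : 3 ≤ m) (ha : 0 < a) (h2 : Nat.card K = 2 → 3 ≤ a) (h3 : Nat.card K = 3 → 3 ≤ a)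
    (h5 : Nat.card K = 5 → 2 ≤ a) (ham : a + 2 ≤ m) (hd : 1 < d) (hdm : dg (CForm.spF K m) (m - 1) * d ∈ charDegrees (PSp m K)) :
    Eight (PSp m K) := by
  classical
  have hpos := dg_pos K (m := m) (k := m - 1) (by omega) (by omega)
  refine eight_of_four K (by omega) (insert (dg (CForm.spF K m) (m - 1) * d) (dgs K m a)) (fun e he => ?_) ?_
  · rcases Finset.mem_insert.1 he with rfl | he
    · refine ⟨hdm, ?_, dg_ne_st K (by omega) (by omega) d⟩
      have h6 := dg_one_le K (m := m) (k := m - 1) (by omega) (by omega) (by omega)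
      have h7 : dg (CForm.spF K m) (m - 1) * 1 ≤ dg (CForm.spF K m) (m - 1) * d := Nat.mul_le_mul_left _ hd.le
      omega
    · exact mem_dgs K (by omega) ha h2 h3 h5 he
  · rw [Finset.card_insert_of_notMem, card_dgs K (by omega) ha]
    · omega
    · intro h
      obtain ⟨k, hk, hk'⟩ := Finset.mem_image.1 h
      rw [Finset.mem_Ico] at hk
      exact extra_ne K hm (by omega) (by omega) hd hk'.symm

end Cfsg.Agent.H362.Eight
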