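import Cfsg.Agent.H362.Eight.SpGen
import Cfsg.Agent.H996.Eight.Interval
import Cfsg.Agent.S2347
import Cfsg.Agent.CharDeep.PowerDegrees
import Cfsg.Agent.CharDeep.LinearChar
import Cfsg.Agent.S0245
import Cfsg.Agent.S0246

/-!
# S4899: the degrees of `PSp_{2m}(q)`, `m ≥ 3`: the small cases (helper362)

`eight_eight_two` (`m = 4`, `q = 2`), `eight_eight_three`, `eight_six_five`, `eight_six_three`;
`eight_sp'` : all `m ≥ 3` except `m = 3`, `q = 2`.
-/

set_option autoImplicit false
set_option linter.unusedSectionVars false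

open Cfsg

namespace Cfsg.Agent.H362.Eight

open Cfsg.Agent.H477.HC Module Cfsg.Agent.H53.HC Cfsg.Agent.Characters Cfsg.Agent.H362.Dl Cfsg.Agent.H664.Eight
open Cfsg.Agent.H996.Eight.Interval

universe u v

variable (K : Type u) [Field K] [Finite K]

theorem simple_psp {m : ℕ} (hm : 3 ≤ m) : IsSimpleGroup (PSp m K) := by
  let _ := Fintype.ofFinite K
  exact S0270.result m (by omega) (by omega)

/-- **`PSp_8(2)`** -/
theorem eight_eight_two (h : Nat.card K = 2) : Eight (PSp 4 K) := by
  have := finite_psp' K 4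
  have := simple_psp K (m := 4) (by norm_num)
  obtain ⟨f, g, hf, hg, -, -, -, h4, h5⟩ := exists_fg K (m := 4) (by norm_num)
  have hd3 := dg_sp K (m := 4) (k := 3) (by norm_num) (by norm_num)
  have hd4 := dg_sp K (m := 4) (k := 4) le_rfl (by norm_num)
  have m3 := dg_mem K (m := 4) (k := 3) (by norm_num) (by norm_num) (fun _ => le_rfl) (fun _ => le_rfl) (fun _ => by norm_num)
  have m4 := dg_mem K (m := 4) (k := 4) (by norm_num) le_rfl (fun _ => by norm_num) (fun _ => by norm_num) (fun _ => by norm_num)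
  have mst := st_mem K (m := 4) (by norm_num)
  have m5 := mul_mem K (k := 3) (n := 1) (by norm_num) (fun _ => le_rfl) (fun _ => le_rfl) (fun _ => by norm_num)
    (st_mem K (m := 1) le_rfl)
  rw [h] at h4 h5 hd3 hd4 mst m5
  norm_num [Finset.prod_range_succ] at h4 h5 hd3 hd4 mst m5
  have e1 : f = 135 := by omega
  have e2 : g = 119 := by omega
  have e3 : dg (CForm.spF K 4) 3 = 34425 := by omega
  have e4 : dg (CForm.spF K 4) 4 = 48195 := by omega
  rw [e1] at hf
  rw [e2] at hg
  rw [e3] at m3 m5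
  rw [e4] at m4
  obtain ⟨e, he, he1, he2⟩ := exists_between (Small.of_mem hg (by norm_num)) (X := 135) (D := 34425) (by norm_num) m3 (by norm_num)
  refine eight_of_list [1, 119, 135, e, 34425, 48195, 65536, 68850] ?_ le_rfl ?_
  · simp only [List.nodup_cons, List.mem_cons, List.not_mem_nil, or_false, not_or, List.nodup_nil, not_false_eq_true, and_true]
    omega
  · intro d hd
    simp only [List.mem_cons, List.not_mem_nil, or_false] at hd
    rcases hd with rfl | rfl | rfl | rfl | rfl | rfl | rfl | rfl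
    exacts [one_mem, hg, hf, he, m3, m4, mst, m5]

/-- **`PSp_8(3)`** -/
theorem eight_eight_three (h : Nat.card K = 3) : Eight (PSp 4 K) := by
  have := finite_psp' K 4
  have := simple_psp K (m := 4) (by norm_num)
  obtain ⟨f, g, hf, hg, -, -, -, h4, h5⟩ := exists_fg K (m := 4) (by norm_num)
  have hd3 := dg_sp K (m := 4) (k := 3) (by norm_num) (by norm_num)
  have hd4 := dg_sp K (m := 4) (k := 4) le_rfl (by norm_num)
  have m3 := dg_mem K (m := 4) (k := 3) (by norm_num) (by norm_num) (fun _ => le_rfl) (fun _ => le_rfl) (fun _ => by norm_num)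
  have m4 := dg_mem K (m := 4) (k := 4) (by norm_num) le_rfl (fun _ => by norm_num) (fun _ => by norm_num) (fun _ => by norm_num)
  have mst := st_mem K (m := 4) (by norm_num)
  have m5 := mul_mem K (k := 3) (n := 1) (by norm_num) (fun _ => le_rfl) (fun _ => le_rfl) (fun _ => by norm_num)
    (st_mem K (m := 1) le_rfl)
  rw [h] at h4 h5 hd3 hd4 mst m5
  norm_num [Finset.prod_range_succ] at h4 h5 hd3 hd4 mst m5
  have e1 : f = 1680 := by omega
  have e2 : g = 1599 := by omega
  have e3 : dg (CForm.spF K 4) 3 = 14694400 := by omega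
  have e4 : dg (CForm.spF K 4) 4 = 38205440 := by omega
  rw [e1] at hf
  rw [e2] at hg
  rw [e3] at m3 m5
  rw [e4] at m4
  obtain ⟨e, he, he1, he2⟩ := exists_between (Small.of_mem hg (by norm_num)) (X := 1680) (D := 14694400) (by norm_num) m3
    (by norm_num)
  refine eight_of_list [1, 1599, 1680, e, 14694400, 38205440, 43046721, 44083200] ?_ le_rfl ?_
  · simp only [List.nodup_cons, List.mem_cons, List.not_mem_nil, or_false, not_or, List.nodup_nil, not_false_eq_true, and_true]
    omega
  · intro d hd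
    simp only [List.mem_cons, List.not_mem_nil, or_false] at hd
    rcases hd with rfl | rfl | rfl | rfl | rfl | rfl | rfl | rfl
    exacts [one_mem, hg, hf, he, m3, m4, mst, m5]

/-! ### `PSp_6(3)` -/

theorem odd_central {G : Type v} [Group G] [Finite G] (hG : commutator G = ⊤) {n : ℕ} (hn : Odd n)
    (ρ : Representation ℂ G (Fin n → ℂ)) (hρ : ρ.IsIrreducible) {z : G} (hz : z ∈ Subgroup.center G) (hz2 : z * z = 1) :
    ρ z = 1 := by
  obtain ⟨l, hl⟩ := Central.exists_smul_of_comm (ρ := ρ) hρ (ρ z) fun g => by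
    rw [← map_mul, ← map_mul, Subgroup.mem_center_iff.1 hz g]
  let f : G →* ℂˣ := MonoidHom.toHomUnits ((LinearMap.det : ((Fin n → ℂ) →ₗ[ℂ] (Fin n → ℂ)) →* ℂ).comp ρ)
  have hf : f z = 1 := by
    have h1 : z ∈ commutator G := hG ▸ Subgroup.mem_top z
    exact (Abelianization.commutator_subset_ker f) h1
  have h2 : LinearMap.det (ρ z) = 1 := by
    have := congrArg (Units.val) hf
    exact this
  rw [hl, LinearMap.det_smul, Module.finrank_fin_fun, map_one, mul_one] at h2
  have h3 : l * l = 1 := by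
    have h4 : ρ z * ρ z = 1 := by rw [← map_mul, hz2, map_one]
    rw [hl, smul_mul_smul_comm, mul_one] at h4
    have h5 := congrArg (LinearMap.det) h4
    have h6 : (1 : (Fin n → ℂ) →ₗ[ℂ] (Fin n → ℂ)) ≠ 0 := by
      intro h7
      obtain ⟨k, hk⟩ := hn
      have h8 := congrFun (LinearMap.congr_fun h7 (Pi.single ⟨0, by omega⟩ 1)) ⟨0, by omega⟩
      rw [Module.End.one_apply, Pi.single_eq_same] at h8
      exact one_ne_zero h8
    have h7 : (l * l) • (1 : (Fin n → ℂ) →ₗ[ℂ] (Fin n → ℂ)) = (1 : ℂ) • (1 : (Fin n → ℂ) →ₗ[ℂ] (Fin n → ℂ)) := by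
      rw [h4, one_smul]
    exact smul_left_injective ℂ h6 h7
  obtain ⟨k, hk⟩ := hn
  rw [hk, pow_succ, pow_mul, pow_two, h3, one_pow, one_mul] at h2
  rw [hl, h2, one_smul]

theorem thirteen_mem (h : Nat.card K = 3) : 13 ∈ charDegrees (PSp 3 K) := by
  classical
  let _ := Fintype.ofFinite K
  have hc : Fintype.card K = 3 := by rw [← Nat.card_eq_fintype_card, h]
  obtain ⟨ρ, hρ⟩ := (S2347.result (F := K) 3 (by norm_num) (by rw [hc]; decide)).2
  have hn : (Fintype.card K ^ 3 - 1) / 2 = 13 := by rw [hc]; norm_num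
  have hχ : IsIrrCharacter _ ρ.character := Core.isIrrCharacter_of_rep ρ hρ
  have h1 : ρ.character 1 = (13 : ℕ) := by
    rw [Representation.char_one, Module.finrank_fin_fun, hn]
  obtain ⟨η, hη, hη'⟩ := exists_quot (Subgroup.center (Matrix.symplecticGroup (Fin 3) K)) hχ fun z hz => by
    have hz2 : z * z = 1 := by
      rcases Cfsg.Agent.ClassicalGeometry.SympInvolutions.center_eq hz with h4 | h4
      · have : z = 1 := Subtype.ext h4
        rw [this, one_mul]
      · apply Subtype.ext
        change (z : Matrix (Fin 3 ⊕ Fin 3) (Fin 3 ⊕ Fin 3) K) * _ = 1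
        rw [h4, neg_mul_neg, one_mul]
    have h5 := odd_central (S0269.result 3 (Or.inl le_rfl)) (by rw [hn]; decide) ρ hρ hz hz2
    change LinearMap.trace ℂ _ (ρ z) = LinearMap.trace ℂ _ (ρ 1)
    rw [h5, map_one ρ]
  refine mem_cd hη ?_
  rw [← h1, ← hη']
  rfl

theorem exists_st (h : Nat.card K = 3) : ∃ t : ℕ, 0 < t ∧ 7280 * t ∈ charDegrees (PSp 3 K) := by
  classical
  have hd2 := dg_sp K (m := 3) (k := 2) (by norm_num) (by norm_num)
  rw [h] at hd2
  norm_num [Finset.prod_range_succ] at hd2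
  obtain ⟨c, hc⟩ := exists_cus (K := K) 2 (by norm_num) 1 one_ne_zero (fun i hi hi' => by
      obtain rfl : i = 1 := by omega
      rw [h]; norm_num) (fun i hi => by
      rw [h]
      interval_cases i <;> norm_num)
  obtain ⟨ψ₀, hψ, hψ'⟩ := exists_psi K (n := 1) one_pos (two_ne_zero_three K h) hc.irr
  obtain ⟨χ₃, hχ₃, hχ₃'⟩ := psp_char_hc K (n := 1) (k := 2) (by norm_num) hc hψ (fun z' hz' => by
    rw [eq_negOne K hz']; exact hψ')
  have := finite_iso (CForm.spF K 1)
  obtain ⟨t, ht0, ht⟩ := Core.isIrr_apply_one hψ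
  have hd2' : dg (CForm.spF K 3) 2 = 7280 := by omega
  have hd2'' : dg (CForm.spF K (2 + 1)) 2 = 7280 := hd2'
  rw [hd2'', ht] at hχ₃'
  exact ⟨t, ht0, mem_cd hχ₃ (by rw [hχ₃', Nat.cast_mul])⟩

/-- **`PSp_6(3)`** -/
theorem eight_six_three (h : Nat.card K = 3) : Eight (PSp 3 K) := by
  have := finite_psp' K 3
  have := simple_psp K (m := 3) le_rfl
  obtain ⟨f, g, hf, hg, -, -, -, h4, h5⟩ := exists_fg K (m := 3) (by norm_num)
  have hd3 := dg_sp K (m := 3) (k := 3) le_rfl (by norm_num)
  have m3 := dg_mem K (m := 3) (k := 3) (by norm_num) (by norm_num) (fun _ => le_rfl) (fun _ => le_rfl) (fun _ => by norm_num)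
  have mst := st_mem K (m := 3) (by norm_num)
  have m13 := thirteen_mem K h
  obtain ⟨t, ht0, mt⟩ := exists_st K h
  rw [h] at h4 h5 hd3 mst
  norm_num [Finset.prod_range_succ] at h4 h5 hd3 mst
  have e1 : f = 195 := by omega
  have e2 : g = 168 := by omega
  have e3 : dg (CForm.spF K 3) 3 = 17920 := by omega
  rw [e1] at hf
  rw [e2] at hg
  rw [e3] at m3
  obtain ⟨e, he, he1, he2⟩ := exists_between (Small.of_mem m13 (by norm_num)) (X := 195) (D := 17920) (by norm_num) m3
    (by norm_num)
  refine eight_of_list [1, 13, 168, 195, e, 7280 * t, 17920, 19683] ?_ le_rfl ?_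
  · simp only [List.nodup_cons, List.mem_cons, List.not_mem_nil, or_false, not_or, List.nodup_nil, not_false_eq_true, and_true]
    omega
  · intro d hd
    simp only [List.mem_cons, List.not_mem_nil, or_false] at hd
    rcases hd with rfl | rfl | rfl | rfl | rfl | rfl | rfl | rfl
    exacts [one_mem, m13, hg, hf, he, mt, m3, mst]

/-! ### `PSp_6(5)` -/

theorem card_psp_one (h : Nat.card K = 5) : Nat.card (PSp 1 K) = 60 := by
  let _ := Fintype.ofFinite K
  have hc : Fintype.card K = 5 := by rw [← Nat.card_eq_fintype_card, h]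
  have h1 := S0245.result (F := K) hc 1
  have h2 := S0246.result (F := K) hc 1 (by norm_num)
  have h3 := Subgroup.card_mul_index (Subgroup.center (Matrix.symplecticGroup (Fin 1) K))
  rw [h1, h2] at h3
  have h4 : (Subgroup.center (Matrix.symplecticGroup (Fin 1) K)).index = Nat.card (PSp 1 K) := rfl
  rw [h4] at h3
  simp only [Finset.prod_range_succ, Finset.prod_range_zero] at h3
  norm_num at h3
  omega

/-- a degree of `A_5` different from `1` and `5` -/
theorem exists_deg_five (h : Nat.card K = 5) : ∃ d ∈ charDegrees (PSp 1 K), 1 < d ∧ d ≠ 5 := by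
  classical
  have := finite_psp' K 1
  let _ := Fintype.ofFinite K
  have hc : Fintype.card K = 5 := by rw [← Nat.card_eq_fintype_card, h]
  have hperf : commutator (PSp 1 K) = ⊤ := by
    have h1 := S0269.result (F := K) 1 (Or.inr (Or.inr (by omega)))
    have h2 := Subgroup.map_commutator (⊤ : Subgroup (Matrix.symplecticGroup (Fin 1) K)) ⊤
      (QuotientGroup.mk' (Subgroup.center (Matrix.symplecticGroup (Fin 1) K)))
    have h3 := Subgroup.map_top_of_surjective (QuotientGroup.mk' (Subgroup.center (Matrix.symplecticGroup (Fin 1) K)))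
      (QuotientGroup.mk'_surjective _)
    rw [h3] at h2
    change Subgroup.map _ (commutator (Matrix.symplecticGroup (Fin 1) K)) = _ at h2
    rw [h1, h3] at h2
    exact h2.symm
  have := Core.finite_irr (G := PSp 1 K)
  have := Fintype.ofFinite (IrrCharacter (PSp 1 K))
  by_contra hcon
  push Not at hcon
  have hdeg : ∀ χ : IrrCharacter (PSp 1 K), χ ≠ ⟨1, Core.isIrr_one⟩ → (χ : PSp 1 K → ℂ) 1 = 5 := by
    intro χ hχ
    obtain ⟨n, hn0, hn⟩ := Core.isIrr_apply_one χ.2
    by_cases hn1 : n = 1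
    · exfalso
      rw [hn1, Nat.cast_one] at hn
      obtain ⟨f, hf⟩ := Linear.exists_hom_of_isIrrCharacter χ.2 hn
      apply hχ
      apply Subtype.ext
      funext g
      have h3 : g ∈ commutator (PSp 1 K) := hperf ▸ Subgroup.mem_top g
      have h4 : f g = 1 := (Abelianization.commutator_subset_ker f) h3
      have h5 := congrFun hf g
      rw [h5]
      simp [h4]
    · have h3 := hcon n (mem_cd χ.2 hn) (by omega)
      rw [hn, h3]; norm_num
  have hs := CharDeep.PowerDegrees.sum_sq (G := PSp 1 K)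
  rw [card_psp_one K h, ← Finset.add_sum_erase _ _ (Finset.mem_univ (⟨1, Core.isIrr_one⟩ : IrrCharacter (PSp 1 K))),
    Finset.sum_congr rfl (fun χ hχ => by rw [hdeg χ (Finset.ne_of_mem_erase hχ)]), Finset.sum_const,
    nsmul_eq_mul] at hs
  change (1 : ℂ) ^ 2 + _ = _ at hs
  have h6 : 1 + ((Finset.univ.erase (⟨1, Core.isIrr_one⟩ : IrrCharacter (PSp 1 K))).card) * 25 = 60 := by
    have : ((1 + ((Finset.univ.erase (⟨1, Core.isIrr_one⟩ : IrrCharacter (PSp 1 K))).card) * 25 : ℕ) : ℂ) = (60 : ℕ) := by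
      rw [← hs]
      push_cast
      ring
    exact_mod_cast this
  omega

/-- **`PSp_6(5)`** -/
theorem eight_six_five (h : Nat.card K = 5) : Eight (PSp 3 K) := by
  classical
  obtain ⟨d, hd, hd1, hd5⟩ := exists_deg_five K h
  have m1 := mul_mem K (k := 2) (n := 1) (by norm_num) (fun h' => by omega) (fun h' => by omega) (fun _ => le_rfl) hd
  have m2 := mul_mem K (k := 2) (n := 1) (by norm_num) (fun h' => by omega) (fun h' => by omega) (fun _ => le_rfl)
    (st_mem K (m := 1) le_rfl)
  have m3 := dg_mem K (m := 3) (k := 2) (by norm_num) (by norm_num) (fun h' => by omega) (fun h' => by omega) (fun _ => le_rfl)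
  have m4 := dg_mem K (m := 3) (k := 3) (by norm_num) (by norm_num) (fun h' => by omega) (fun h' => by omega)
    (fun _ => by norm_num)
  rw [h, one_pow, pow_one] at m2
  have hpos := dg_pos K (m := 3) (k := 2) (by norm_num) (by norm_num)
  have hlt := dg_lt K (m := 3) (k := 1) (l := 2) one_pos (by norm_num) (by norm_num) (by norm_num)
  have hlt' := dg_lt K (m := 3) (k := 2) (l := 3) (by norm_num) (by norm_num) (by norm_num) (by norm_num)
  have hne1 := extra_ne K (m := 3) (k := 3) (d := d) le_rfl (by norm_num) le_rfl hd1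
  have hne2 := extra_ne K (m := 3) (k := 3) (d := 5) le_rfl (by norm_num) le_rfl (by norm_num)
  change dg (CForm.spF K 3) 2 * d ≠ _ at hne1
  change dg (CForm.spF K 3) 2 * 5 ≠ _ at hne2
  change dg (CForm.spF K 3) 2 * d ∈ charDegrees (PSp 3 K) at m1
  change dg (CForm.spF K 3) 2 * 5 ∈ charDegrees (PSp 3 K) at m2
  have s1 := dg_ne_st K (m := 3) (k := 2) (by norm_num) (by norm_num) d
  have s2 := dg_ne_st K (m := 3) (k := 2) (by norm_num) (by norm_num) 5
  have s3 := dg_ne_st K (m := 3) (k := 2) (by norm_num) (by norm_num) 1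
  have s4 := dg_ne_st K (m := 3) (k := 3) (by norm_num) (by norm_num) 1
  rw [mul_one] at s3 s4
  have hx : dg (CForm.spF K 3) 2 * 1 < dg (CForm.spF K 3) 2 * d := Nat.mul_lt_mul_of_pos_left hd1 hpos
  have hy : dg (CForm.spF K 3) 2 * d ≠ dg (CForm.spF K 3) 2 * 5 := fun h' => hd5 (Nat.eq_of_mul_eq_mul_left hpos h')
  refine eight_of_four K (m := 3) (by norm_num)
    {dg (CForm.spF K 3) 2, dg (CForm.spF K 3) 3, dg (CForm.spF K 3) 2 * 5, dg (CForm.spF K 3) 2 * d} ?_ ?_
  · intro e he
    simp only [Finset.mem_insert, Finset.mem_singleton] at he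
    rcases he with rfl | rfl | rfl | rfl
    · exact ⟨m3, by omega, s3⟩
    · exact ⟨m4, by omega, s4⟩
    · exact ⟨m2, by omega, s2⟩
    · exact ⟨m1, by omega, s1⟩
  · rw [Finset.card_insert_of_notMem, Finset.card_insert_of_notMem, Finset.card_insert_of_notMem, Finset.card_singleton]
    · simp only [Finset.mem_singleton]
      exact fun h' => hy h'.symm
    · simp only [Finset.mem_insert, Finset.mem_singleton]
      exact fun h' => h'.elim (fun h' => hne2 h'.symm) (fun h' => hne1 h'.symm)
    · simp only [Finset.mem_insert, Finset.mem_singleton]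
      omega

/-- **all cases but `PSp_6(2)`** -/
theorem eight_sp' {m : ℕ} (hm : 3 ≤ m) (h : ¬ (m = 3 ∧ Nat.card K = 2)) : Eight (PSp m K) := by
  have hq : 1 < Nat.card K := Finite.one_lt_card
  have key : ∀ a, 0 < a → (Nat.card K = 2 → 3 ≤ a) → (Nat.card K = 3 → 3 ≤ a) → (Nat.card K = 5 → 2 ≤ a) → a + 2 ≤ m →
      Eight (PSp m K) := by
    intro a ha h2 h3 h5 ham
    obtain ⟨k, rfl⟩ : ∃ k, m = k + 1 := ⟨m - 1, by omega⟩
    have m1 := mul_mem K (k := k) (n := 1) (by omega) (fun h' => by have := h2 h'; omega) (fun h' => by have := h3 h'; omega)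
      (fun h' => by have := h5 h'; omega) (st_mem K (m := 1) le_rfl)
    rw [one_pow, pow_one] at m1
    exact eight_gen_one K hm ha h2 h3 h5 ham hq m1
  by_cases h2 : Nat.card K = 2
  · rcases (by omega : m = 4 ∨ 5 ≤ m) with rfl | hm5
    · exact eight_eight_two K h2
    · exact key 3 (by norm_num) (fun _ => le_rfl) (fun _ => le_rfl) (fun _ => by norm_num) hm5
  by_cases h3 : Nat.card K = 3
  · rcases (by omega : m = 3 ∨ m = 4 ∨ 5 ≤ m) with rfl | rfl | hm5
    · exact eight_six_three K h3
    · exact eight_eight_three K h3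
    · exact key 3 (by norm_num) (fun _ => le_rfl) (fun _ => le_rfl) (fun _ => by norm_num) hm5
  by_cases h5 : Nat.card K = 5
  · rcases (by omega : m = 3 ∨ 4 ≤ m) with rfl | hm4
    · exact eight_six_five K h5
    · exact key 2 (by norm_num) (fun h' => absurd h' h2) (fun h' => absurd h' h3) (fun _ => le_rfl) hm4
  · exact key 1 one_pos (fun h' => absurd h' h2) (fun h' => absurd h' h3) (fun h' => absurd h' h5) hm

end Cfsg.Agent.H362.Eight
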